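import Groth.Agent.L19.OmegaSh.ConormalMono
import Groth.Agent.L19.ProjBdl.Basis

/-!
The conormal sequence is injective at the points having a formally smooth neighbourhood.
-/

set_option autoImplicit false
set_option linter.style.haveILetI false
set_option backward.isDefEq.respectTransparency.types false
set_option backward.isDefEq.respectTransparency false

universe u

open CategoryTheory CategoryTheory.Limits AlgebraicGeometry TopologicalSpace Opposite

noncomputable section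

namespace Groth.L21.NormalSheaf

open Groth.L18.Frame (rs ro rs_rs ro_ro rs_smul ro_self rs_self)
open _root_.OmegaSh (Der IsUniversal IsConormalDiff idealSect pullSect conormalSect)
open Groth.L19.OmegaSh (idl exists_lift_sqZero conormalSect_eq_of_sub_mem_sq exists_lift_fun exists_der_open kappa
  image_preimage_le_preimage eq_conormalSect_of_basicOpen exists_good exists_affine_surjective exists_idealSect
  idealSect_smul conormalSect_smul app_idealSect idealSect_injective conormal_hom_ext homEquiv_app_diffCompat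
  eq_of_local conormalSect_rs idealSect_rs der_map der_mul app_ro)

variable {X' X Y : Scheme.{u}} {f : X ⟶ Y} {j : X' ⟶ X}

theorem exists_section_mod_sq {U₀ : X'.Opens} (hf : MoreMor.IsFormallySmoothHom (U₀.ι ≫ j ≫ f)) {W : X.Opens} (hW : IsAffineOpen W)
    (hU : IsAffineOpen (j ⁻¹ᵁ W)) (hs : Function.Surjective (j.app W)) {V : Y.Opens} (hV : IsAffineOpen V)
    (e : W ≤ f ⁻¹ᵁ V) (hWU : j ⁻¹ᵁ W ≤ U₀) :
    ∃ σ : Γ(X', j ⁻¹ᵁ W) →+* Γ(X, W) ⧸ RingHom.ker (j.app W).hom ^ 2,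
      (∀ b a, σ b = Ideal.Quotient.mk _ a → j.app W a = b) ∧
        ∀ c, σ (j.app W (f.appLE V W e c)) = Ideal.Quotient.mk _ (f.appLE V W e c) := by
  let I := RingHom.ker (j.app W).hom
  let T := CommRingCat.of (Γ(X, W) ⧸ I ^ 2)
  let π : Γ(X, W) ⟶ T := CommRingCat.ofHom (Ideal.Quotient.mk (I ^ 2))
  let q : T ⟶ Γ(X', j ⁻¹ᵁ W) := CommRingCat.ofHom
    (Ideal.Quotient.lift (I ^ 2) (j.app W).hom fun a ha => Ideal.pow_le_self two_ne_zero ha)
  have hπq : π ≫ q = j.app W := by ext a; rfl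
  have hqs : Function.Surjective q.hom := fun b => by
    obtain ⟨a, rfl⟩ := hs b
    exact ⟨Ideal.Quotient.mk (I ^ 2) a, rfl⟩
  have hsq : RingHom.ker q.hom ^ 2 = ⊥ := by
    refine (pow_two _).trans (eq_bot_iff.mpr (Ideal.mul_le.mpr ?_))
    intro x hx y hy
    obtain ⟨a, rfl⟩ := Ideal.Quotient.mk_surjective x
    obtain ⟨b, rfl⟩ := Ideal.Quotient.mk_surjective y
    refine (Ideal.mem_bot).mpr ?_
    show Ideal.Quotient.mk (I ^ 2) a * Ideal.Quotient.mk (I ^ 2) b = 0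
    rw [← map_mul, Ideal.Quotient.eq_zero_iff_mem, pow_two]
    exact Ideal.mul_mem_mul (show a ∈ I from hx) (show b ∈ I from hy)
  have e' : j ⁻¹ᵁ W ≤ (j ≫ f) ⁻¹ᵁ V := Scheme.Hom.preimage_mono j e
  have hr : Set.range hU.fromSpec ⊆ Set.range U₀.ι := by
    rw [hU.range_fromSpec, Scheme.Opens.range_ι]
    exact hWU
  let a := IsOpenImmersion.lift U₀.ι hU.fromSpec hr
  have ha : a ≫ U₀.ι = hU.fromSpec := IsOpenImmersion.lift_fac _ _ _
  obtain ⟨l₀, hl₁', hl₂', hlr'⟩ := exists_lift_sqZero q hqs hsq hf a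
    (Spec.map π ≫ hW.fromSpec ≫ f) (by
      rw [← Category.assoc a, ha, ← Spec.map_comp_assoc, hπq, Scheme.Hom.app_eq_appLE, ← Category.assoc _ j f,
        ← IsAffineOpen.SpecMap_appLE_fromSpec j hW hU le_rfl, Category.assoc])
  obtain ⟨l, hl₁, hl₂, hlr⟩ : ∃ l, Spec.map q ≫ l = hU.fromSpec ∧ l ≫ j ≫ f = Spec.map π ≫ hW.fromSpec ≫ f ∧
      Set.range l ⊆ Set.range hU.fromSpec := by
    refine ⟨l₀ ≫ U₀.ι, by rw [← Category.assoc, hl₁', ha], by rw [Category.assoc, hl₂'], ?_⟩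
    rintro _ ⟨z, rfl⟩
    obtain ⟨w, hw⟩ := hlr' ⟨z, rfl⟩
    exact ⟨w, by rw [← ha, Scheme.Hom.comp_apply, hw, Scheme.Hom.comp_apply]⟩
  obtain ⟨ψ, hψ⟩ : ∃ ψ, Spec.map ψ ≫ hU.fromSpec = l :=
    ⟨Spec.preimage (IsOpenImmersion.lift hU.fromSpec l hlr), by rw [Spec.map_preimage, IsOpenImmersion.lift_fac]⟩
  have h₁ : ψ ≫ q = 𝟙 _ := Spec.map_injective <| by
    rw [← cancel_mono hU.fromSpec, Spec.map_comp, Category.assoc, hψ, hl₁, Spec.map_id, Category.id_comp]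
  have h₂ : (j ≫ f).appLE V (j ⁻¹ᵁ W) e' ≫ ψ = f.appLE V W e ≫ π := Spec.map_injective <| by
    rw [← cancel_mono hV.fromSpec, Spec.map_comp, Spec.map_comp, Category.assoc, Category.assoc,
      IsAffineOpen.SpecMap_appLE_fromSpec _ hV hU e', IsAffineOpen.SpecMap_appLE_fromSpec _ hV hW e,
      ← Category.assoc (Spec.map ψ), hψ, hl₂]
  refine ⟨ψ.hom, fun b a h => ?_, fun c => ?_⟩
  · have h3 : q (ψ b) = b := congr($h₁ b)
    rw [show ψ b = Ideal.Quotient.mk (I ^ 2) a from h] at h3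
    exact h3
  · refine Eq.trans ?_ congr($h₂ c)
    refine congrArg ψ ?_
    rw [Scheme.Hom.app_eq_appLE, ← CommRingCat.comp_apply, Scheme.Hom.appLE_comp_appLE]
    rfl

theorem exists_retraction_affine [QuasiCompact j] {U₀ : X'.Opens}
    (hf : MoreMor.IsFormallySmoothHom (U₀.ι ≫ j ≫ f)) {W : X.Opens}
    (hW : IsAffineOpen W) (hU : IsAffineOpen (j ⁻¹ᵁ W)) (hs : Function.Surjective (j.app W)) {V : Y.Opens}
    (hV : IsAffineOpen V) (e : W ≤ f ⁻¹ᵁ V) (hWU : j ⁻¹ᵁ W ≤ U₀) :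
    ∃ δ : Γ(X, W) →+ Γ(Omega.conormal j, j ⁻¹ᵁ W),
      (∀ a b, δ (a * b) = j.app W a • δ b + j.app W b • δ a) ∧ (∀ c, δ (f.appLE V W e c) = 0) ∧
        ∀ s : Γ(idl j, W), δ (idealSect j.ker W s) = conormalSect j W s := by
  obtain ⟨σ, hσ, hσc⟩ := exists_section_mod_sq hf hW hU hs hV e hWU
  let C := Omega.conormal j
  have hlift : ∀ (x : Γ(X, W)), j.app W x = 0 → ∃ s : Γ(idl j, W), idealSect j.ker W s = x :=
    fun x hx => exists_idealSect j W x hx
  have hindep := fun (s t : Γ(idl j, W)) => conormalSect_eq_of_sub_mem_sq (j := j) s t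
  obtain ⟨b, hb, hbadd, hbmul, hb0⟩ := exists_lift_fun (j.app W).hom _ σ
  have hjb : ∀ a, j.app W (b a) = j.app W a := fun a => hσ _ _ (hb a).symm
  choose s hs' using fun a : Γ(X, W) => hlift (a - b a) (by rw [map_sub, hjb, sub_self])
  have hval : ∀ (a : Γ(X, W)) (c : Γ(X, W)) (t : Γ(idl j, W)),
      Ideal.Quotient.mk _ c = σ (j.app W a) → idealSect j.ker W t = a - c →
        conormalSect j W (s a) = conormalSect j W t := by
    intro a c t hc ht
    refine hindep _ _ ?_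
    rw [hs', ht, sub_sub_sub_cancel_left]
    exact Ideal.Quotient.eq.mp (hc.trans (hb a).symm)
  refine ⟨AddMonoidHom.mk' (fun a => conormalSect j W (s a)) fun a a' => ?_, fun a a' => ?_, fun c => ?_, fun t => ?_⟩
  · rw [hval (a + a') (b a + b a') (s a + s a') (hbadd a a')
      (by rw [map_add, hs', hs']; ring), map_add]
  · show conormalSect j W (s (a * a')) = _
    rw [hval (a * a') (b a * b a') (a • s a' + b a' • s a) (hbmul a a')
      (by rw [map_add, idealSect_smul, idealSect_smul, hs', hs']; ring), map_add, conormalSect_smul,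
      conormalSect_smul, hjb]
    rfl
  · show conormalSect j W (s _) = 0
    rw [hval _ (f.appLE V W e c) 0 (hσc c).symm (by rw [map_zero, sub_self]), map_zero]
  · show conormalSect j W (s _) = _
    rw [hval _ 0 t (hb0 _ (app_idealSect j W t)) (sub_zero _).symm]

theorem exists_local_retraction [IsImmersion j] [QuasiCompact j] {U₀ : X'.Opens}
    (hf : MoreMor.IsFormallySmoothHom (U₀.ι ≫ j ≫ f))
    {Ω : X.Modules} {d : Der f Ω} (hd : IsUniversal d)
    {φ : Omega.conormal j ⟶ (Scheme.Modules.pullback j).obj Ω} (hφ : IsConormalDiff j d φ) (x : X') (hx₀ : x ∈ U₀) :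
    ∃ (U : X'.Opens) (r : (Scheme.Modules.pullback j).obj Ω ⟶
        (Scheme.Modules.pushforward U.ι).obj ((Omega.conormal j).restrict U.ι)),
      x ∈ U ∧ φ ≫ r = (Scheme.Modules.restrictAdjunction U.ι).unit.app (Omega.conormal j) := by
  obtain ⟨W₀, ⟨V, eV⟩, hxW₀, -⟩ := exists_good (f := f) (j x) ⊤ trivial
  obtain ⟨O₀, hO₀, hO₀U⟩ := j.isEmbedding.isInducing.isOpen_iff.mp U₀.2
  have hjx : j x ∈ W₀.1 ⊓ (⟨O₀, hO₀⟩ : X.Opens) := ⟨hxW₀, show x ∈ j ⁻¹' O₀ by rw [hO₀U]; exact hx₀⟩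
  obtain ⟨W, hxW, hWle', haff, hs⟩ := exists_affine_surjective (i := j) x _ hjx
  have hWle : W.1 ≤ W₀.1 := hWle'.trans inf_le_left
  have hWU : j ⁻¹ᵁ W.1 ≤ U₀ := fun z hz => by
    have : z ∈ j ⁻¹' O₀ := (hWle' hz).2
    rwa [hO₀U] at this
  have key : ∀ W₁ : X.Opens, W₁ = W.1 → ∀ e₁ : W₁ ≤ f ⁻¹ᵁ V.1,
      ∃ δ : Γ(X, W₁) →+ Γ(Omega.conormal j, j ⁻¹ᵁ W₁),
        (∀ a b, δ (a * b) = j.app W₁ a • δ b + j.app W₁ b • δ a) ∧ (∀ c, δ (f.appLE V.1 W₁ e₁ c) = 0) ∧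
          ∀ s : Γ(idl j, W₁), δ (idealSect j.ker W₁ s) = conormalSect j W₁ s := by
    rintro W₁ rfl e₁
    exact exists_retraction_affine hf W.2 haff hs V.2 e₁ hWU
  obtain ⟨δ, hδ, hδc, hδs⟩ := key (W.1.ι ''ᵁ ⊤) W.1.ι_image_top (W.1.ι_image_top.le.trans (hWle.trans eV))
  obtain ⟨E₀, hE₀⟩ := exists_der_open (M := (Scheme.Modules.pushforward j).obj (Omega.conormal j)) W.2 V.2
    (hWle.trans eV) δ hδ hδc
  obtain ⟨γ, hγ, -⟩ := hd _ (E₀.postcomp (kappa (j := j) (Omega.conormal j) W.1).val)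
  let adj := Scheme.Modules.pullbackPushforwardAdjunction j
  refine ⟨j ⁻¹ᵁ W.1, (adj.homEquiv _ _).symm γ, hxW, conormal_hom_ext fun Z s => ?_⟩
  refine (congrArg (((adj.homEquiv _ _).symm γ).app (j ⁻¹ᵁ Z)) (hφ Z s)).trans ?_
  refine (homEquiv_app_diffCompat j d _ Z _).symm.trans ?_
  rw [Equiv.apply_symm_apply]
  refine (congrArg (fun E' : Der f _ => E'.app Z (idealSect j.ker Z s)) hγ).trans ?_
  rw [Scheme.Modules.restrictAdjunction_unit_app_app]
  show rs (Omega.conormal j) (image_preimage_le_preimage (j := j) Z) (E₀.app Z (idealSect j.ker Z s)) = _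
  refine eq_of_local (N := Omega.conormal j) _ _ fun z hz => ?_
  obtain ⟨⟨y, hy⟩, hyZ, rfl⟩ := hz
  obtain ⟨g, hgle, hyg⟩ := W.2.exists_basicOpen_le (V := Z) ⟨j y, hyZ⟩ hy
  have hgW : X.basicOpen g ≤ W.1 := X.basicOpen_le g
  have hO : j ⁻¹ᵁ X.basicOpen g ≤ (j ⁻¹ᵁ W.1).ι ''ᵁ ((j ⁻¹ᵁ W.1).ι ⁻¹ᵁ (j ⁻¹ᵁ Z)) :=
    fun w hw => ⟨⟨w, hgW hw⟩, hgle hw, rfl⟩
  have hgD : X.basicOpen g ≤ W.1.ι ''ᵁ (W.1.ι ⁻¹ᵁ X.basicOpen g) := fun w hw => ⟨⟨w, hgW hw⟩, hw, rfl⟩
  refine ⟨j ⁻¹ᵁ X.basicOpen g, hO, hyg, ?_⟩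
  refine (rs_rs (Omega.conormal j) _ hO _).trans (Eq.trans ?_ (rs_rs (Omega.conormal j) _ hO _).symm)
  refine Eq.trans ?_ (conormalSect_rs hgle s)
  let v : Γ(X, X.basicOpen g) → Γ(Omega.conormal j, j ⁻¹ᵁ X.basicOpen g) := fun a =>
    rs (Omega.conormal j) (Scheme.Hom.preimage_mono j hgD) (E₀.app (X.basicOpen g) a)
  refine Eq.trans ?_ (eq_conormalSect_of_basicOpen g W.1.ι_image_top (hgW.trans W.1.ι_image_top.ge) v
    (fun a b => ?_) (fun u => ?_) (rs (idl j) hgle s))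
  · show _ = rs (Omega.conormal j) _ (E₀.app _ (idealSect j.ker _ (rs (idl j) hgle s)))
    rw [idealSect_rs, der_map]
    exact (rs_rs (Omega.conormal j) (Scheme.Hom.preimage_mono j
      (Scheme.Hom.image_mono W.1.ι (Scheme.Hom.preimage_mono W.1.ι hgle))) (Scheme.Hom.preimage_mono j hgD) _).symm
  · show rs (Omega.conormal j) _ (E₀.app _ (a * b)) = _
    rw [der_mul]
    refine (map_add _ _ _).trans (congrArg₂ (· + ·) ?_ ?_) <;>
    · refine (rs_smul (Omega.conormal j) _ _ _).trans (congrArg (· • _) ?_)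
      show ro (Scheme.Hom.preimage_mono j hgD) (j.app _ ((W.1.ι.appIso _).inv (W.1.ι.app _ _))) = _
      simp only [Scheme.Opens.ι_appIso, Scheme.Opens.ι_app]
      show ro _ (j.app _ (ro _ _)) = _
      rw [app_ro, ro_ro, ro_self]
  · show rs (Omega.conormal j) _ (E₀.app _ (ro _ (idealSect j.ker _ u))) = _
    refine (hE₀ _ _ hgD (idealSect j.ker _ u)).trans ?_
    exact (congrArg (rs (Omega.conormal j) (Scheme.Hom.preimage_mono j (hgW.trans W.1.ι_image_top.ge))) (hδs u)).trans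
      (conormalSect_rs (hgW.trans W.1.ι_image_top.ge) u).symm

/-- Injectivity at a point with a formally smooth neighbourhood, on germs. -/
theorem germ_eq_zero_of_formallySmooth_nhd [IsImmersion j] [QuasiCompact j] {U₀ : X'.Opens}
    (hf : MoreMor.IsFormallySmoothHom (U₀.ι ≫ j ≫ f)) {Ω : X.Modules} {d : Der f Ω} (hd : IsUniversal d)
    {φ : Omega.conormal j ⟶ (Scheme.Modules.pullback j).obj Ω} (hφ : IsConormalDiff j d φ) {x : X'} (hx : x ∈ U₀)
    {O : X'.Opens} (hxO : x ∈ O) (s : Γ(Omega.conormal j, O))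
    (h : ((Scheme.Modules.pullback j).obj Ω).presheaf.germ O x hxO (φ.app O s) = 0) :
    (Omega.conormal j).presheaf.germ O x hxO s = 0 := by
  obtain ⟨U, r, hxU, hr⟩ := exists_local_retraction hf hd hφ x hx
  obtain ⟨O', hxO', i₁, i₂, heq⟩ := TopCat.Presheaf.germ_eq ((Scheme.Modules.pullback j).obj Ω).presheaf x hxO hxO
    (φ.app O s) 0 (by rw [h, map_zero])
  rw [map_zero] at heq
  let s' := rs (Omega.conormal j) (leOfHom i₁) s
  have h0 : φ.app O' s' = 0 := (Groth.L19.ProjBdl.app_rs φ (leOfHom i₁) s).trans heq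
  have h1 := congr($(congrArg (fun η => Scheme.Modules.Hom.app η O') hr) s')
  rw [Scheme.Modules.restrictAdjunction_unit_app_app] at h1
  have h2 : rs (Omega.conormal j) (U.ι.image_preimage_le O') s' = 0 :=
    h1.symm.trans ((congrArg (r.app O') h0).trans (map_zero _))
  have hmem : x ∈ U.ι ''ᵁ (U.ι ⁻¹ᵁ O') := ⟨⟨x, hxU⟩, hxO', rfl⟩
  have h3 : (Omega.conormal j).presheaf.germ _ x hmem (rs (Omega.conormal j) (U.ι.image_preimage_le O') s') =
      (Omega.conormal j).presheaf.germ O x hxO s :=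
    (TopCat.Presheaf.germ_res_apply (Omega.conormal j).presheaf _ x hmem s').trans
      (TopCat.Presheaf.germ_res_apply (Omega.conormal j).presheaf _ x hxO' s)
  rw [← h3, h2, map_zero]

end Groth.L21.NormalSheaf
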