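import Groth.Agent.L17.SheafHomCoh
import Groth.Agent.L21.RR.Sections
import Groth.Agent.L12.GenusZero.Basic
import Mathlib.LinearAlgebra.Basis.VectorSpace

/-!
Precomposition on sheaf Homs, and surjectivity of the dual of a generically injective family.
-/

set_option autoImplicit false
set_option backward.isDefEq.respectTransparency false
set_option linter.style.haveILetI false
universe u

open CategoryTheory CategoryTheory.Limits AlgebraicGeometry TopologicalSpace Opposite
open Groth.L21.RR (st st_germ)

noncomputable section

namespace Groth.L21.NormalSheaf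

variable {X : Scheme.{u}} {A B : X.Modules}

/-- Precomposition with a morphism. -/
def precomp (u : A ⟶ B) (G : X.Modules) : RefHull.homSh B G ⟶ RefHull.homSh A G :=
  ⟨PresheafOfModules.homMk
    { app := fun U => AddCommGrpCat.ofHom
        { toFun := fun g => (⟨fun x => ((show Γ(RefHull.homSh B G, U.unop) from g).1 x).comp (RefHull.stalkMapₗ u x.1),
            fun V i m x => by
              obtain ⟨W, hW, j, n, w⟩ := RefHull.isLocSect_of_mem (show Γ(RefHull.homSh B G, U.unop) from g) V i
                (u.app V m) x
              refine ⟨W, hW, j, n, fun y => ?_⟩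
              rw [← w y, LinearMap.comp_apply, RefHull.stalkMapₗ_germ]⟩ : Γ(RefHull.homSh A G, U.unop))
          map_zero' := Subtype.ext (funext fun x => LinearMap.zero_comp _)
          map_add' := fun g g' => Subtype.ext (funext fun x => LinearMap.add_comp _ _ _) }
      naturality := fun {U V} i => by
        ext g
        rfl }
    fun U r g => Subtype.ext (funext fun x => LinearMap.smul_comp _ _ _)⟩

theorem evalStalk_precomp (u : A ⟶ B) (G : X.Modules) (x : X) (θ : (RefHull.homSh B G).presheaf.stalk x) :
    RefHull.evalStalk A G x (st (precomp u G) x θ) = (RefHull.evalStalk B G x θ).comp (st u x) := by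
  obtain ⟨U, hx, g, rfl⟩ := TopCat.Presheaf.exists_germ_eq (RefHull.homSh B G).presheaf θ
  rw [st_germ, RefHull.evalStalk_germ, RefHull.evalStalk_germ]
  refine LinearMap.ext fun v => ?_
  obtain ⟨V, hv, m, rfl⟩ := TopCat.Presheaf.exists_germ_eq A.presheaf v
  show (g.1 ⟨x, hx⟩) (RefHull.stalkMapₗ u x (A.presheaf.germ V x hv m)) =
    (g.1 ⟨x, hx⟩) (st u x (A.presheaf.germ V x hv m))
  rw [RefHull.stalkMapₗ_germ, st_germ]

/-- A family of maps whose stalks at a point with field local ring are jointly injective dualises to a family
jointly surjective at that point. -/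
theorem surjective_desc_precomp [IsLocallyNoetherian X] {ι : Type u} [Fintype ι] (u : ι → (A ⟶ B)) (G : X.Modules)
    (hA : Coh.IsCoh A) (hB : Coh.IsCoh B) [Coh.IsQCoh G] (x : X) (hK : IsField (X.presheaf.stalk x))
    (hu : ∀ v, (∀ i, st (u i) x v = 0) → v = 0) :
    Function.Surjective (st (biproduct.desc fun i => precomp (u i) G) x) := by
  classical
  intro τ
  let K := X.presheaf.stalk x
  let θ := RefHull.evalStalk A G x τ
  let J : A.presheaf.stalk x →ₗ[K] (ι → B.presheaf.stalk x) := LinearMap.pi fun i => st (u i) x
  have hJ : LinearMap.ker J = ⊥ := (LinearMap.ker_eq_bot').2 fun v hv => hu v fun i => congrFun hv i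
  obtain ⟨r, hr⟩ : ∃ r : (ι → B.presheaf.stalk x) →ₗ[K] A.presheaf.stalk x, r.comp J = LinearMap.id := by
    letI : Field K := hK.toField
    exact LinearMap.exists_leftInverse_of_injective J hJ
  choose g hg using fun i => (Groth.L15.Ref.evalStalk_bijective B G hB x).2
    ((θ.comp r).comp (LinearMap.single K (fun _ => B.presheaf.stalk x) i))
  refine ⟨∑ i, st (biproduct.ι (fun _ : ι => RefHull.homSh B G) i) x (g i), ?_⟩
  apply (Groth.L15.Ref.evalStalk_bijective A G hA x).1
  have hc : ∀ i, st (biproduct.desc fun i => precomp (u i) G) x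
      (st (biproduct.ι (fun _ : ι => RefHull.homSh B G) i) x (g i)) = st (precomp (u i) G) x (g i) := fun i => by
    conv_rhs => rw [← biproduct.ι_desc (fun i => precomp (u i) G) i]
    exact (congr($((Groth.L00.Stk.F X x).map_comp (biproduct.ι (fun _ : ι => RefHull.homSh B G) i)
      (biproduct.desc fun i => precomp (u i) G)) (g i))).symm
  rw [map_sum, map_sum]
  simp only [hc, evalStalk_precomp, hg]
  refine LinearMap.ext fun v => ?_
  rw [LinearMap.sum_apply]
  simp only [LinearMap.comp_apply]
  rw [← map_sum, ← map_sum]
  refine congrArg θ ((congrArg r ?_).trans (LinearMap.congr_fun hr v))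
  exact Finset.univ_sum_single (J v)

end Groth.L21.NormalSheaf
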