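import Groth.Agent.L22.Adjunction.PnOmega
import Groth.Agent.L16.ProjSpace.QuotTwist
import Groth.Agent.L21.Mod.Glue

/-!
The maps `Ω → O(-1)` of projective space given by the partial derivatives: on the standard open `x_i ≠ 0` the
differential of `x_m / x_i` goes to `(δ_{jm} - (x_m / x_i) δ_{ji}) / x_i`.
-/

set_option autoImplicit false
set_option backward.isDefEq.respectTransparency false
set_option backward.isDefEq.respectTransparency.types false
set_option linter.style.haveILetI false
universe u

open CategoryTheory CategoryTheory.Limits AlgebraicGeometry TopologicalSpace Opposite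

noncomputable section

namespace Groth.L21.NormalSheaf

open Groth.L18.Frame (rs ro rs_rs rs_self rs_smul ro_ro ro_self IsFrame)
open Groth.L22.Adjunction (PS DO rat rat_trans rat_self OP dP dr isBasisS_dr cfL cf_rs cf_unique)
open Groth.L22.CurveDeg.Det (IsBasisS)
open Groth.L16.ProjSpace (Xd)
open Groth.L19.OmegaSh (der_map der_mul)

variable (n : ℕ) (R : Type u) [CommRing R]

/-- `O(-1)`. -/
abbrev Om1 : (PS n R).Modules := Twist.twistProjSpace n R (-1)

/-- The frame `1 / x_i` of `O(-1)`. -/
def fe (i : Fin (n + 1)) : Γ(Om1 n R, DO n R i) :=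
  Groth.L16.ProjTwist.negFrame (CohB1.polyGrading n R) 1 (Xd n R i)

theorem isFrame_fe (i : Fin (n + 1)) : IsFrame (Om1 n R) (DO n R i) (fe n R i) :=
  Groth.L16.ProjTwist.isFrame_negFrame (CohB1.polyGrading n R) 1 (Xd n R i)

theorem rs_fe {W : (PS n R).Opens} {i l : Fin (n + 1)} (hi : W ≤ DO n R i) (hl : W ≤ DO n R l) :
    rs (Om1 n R) hl (fe n R l) = ro hl (rat n R l i) • rs (Om1 n R) hi (fe n R i) := by
  have hcov : ∀ x : Proj (CohB1.polyGrading n R),
      ∃ j : ULift.{u} (Fin (n + 1)), x ∈ Proj.basicOpen (CohB1.polyGrading n R) (Xd n R j.down).1 := fun x => by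
    obtain ⟨j, hj⟩ := Groth.L16.ProjSpace.exists_mem_basicOpen_X n R x
    exact ⟨⟨j⟩, hj⟩
  have h := (Groth.L16.ProjTwist.framesData (CohB1.polyGrading n R)
    (fun j : ULift.{u} (Fin (n + 1)) => Xd n R j.down) one_pos hcov).rel 1 ⟨l⟩ ⟨i⟩ W hl hi
  rw [pow_one] at h
  exact h

variable [QuasiSeparated (CohB1.ProjSpace.toSpec n R)]

/-- The values of the `j`th map on the basis of the differentials over a standard open. -/
def val (j i : Fin (n + 1)) (k : Fin n) : Γ(PS n R, DO n R i) :=
  (if i.succAbove k = j then 1 else 0) - if i = j then rat n R i (i.succAbove k) else 0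

/-- The coefficient of the `j`th map. -/
def cm (j i : Fin (n + 1)) {W : (PS n R).Opens} (h : W ≤ DO n R i) :
    Γ(OP n R, W) →ₗ[Γ(PS n R, W)] Γ(PS n R, W) :=
  (∑ k, (ro h (val n R j i k)) • LinearMap.proj k).comp (cfL (isBasisS_dr n R i) h)

theorem cm_apply (j i : Fin (n + 1)) {W : (PS n R).Opens} (h : W ≤ DO n R i) (s : Γ(OP n R, W)) :
    cm n R j i h s = ∑ k, ro h (val n R j i k) * cfL (isBasisS_dr n R i) h s k := by
  simp [cm]

theorem cm_rs (j i : Fin (n + 1)) {W W' : (PS n R).Opens} (h : W ≤ DO n R i) (h' : W' ≤ W) (s : Γ(OP n R, W)) :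
    cm n R j i (h'.trans h) (rs (OP n R) h' s) = ro h' (cm n R j i h s) := by
  rw [cm_apply, cm_apply]
  refine Eq.trans ?_ (map_sum ((PS n R).presheaf.map (homOfLE h').op).hom _ _).symm
  refine Finset.sum_congr rfl fun k _ => ?_
  have e : cfL (isBasisS_dr n R i) (h'.trans h) (rs (OP n R) h' s) k = ro h' (cfL (isBasisS_dr n R i) h s k) :=
    congrFun (cf_rs (isBasisS_dr n R i) h h' s) k
  rw [e, map_mul]
  exact congrArg (· * _) (ro_ro _ _ _).symm

theorem cm_basis (j i : Fin (n + 1)) {W : (PS n R).Opens} (h : W ≤ DO n R i) (k : Fin n) :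
    cm n R j i h (rs (OP n R) h (dr n R i k)) = ro h (val n R j i k) := by
  classical
  rw [cm_apply]
  have e : cfL (isBasisS_dr n R i) h (rs (OP n R) h (dr n R i k)) = fun b => if k = b then 1 else 0 :=
    cf_unique (isBasisS_dr n R i) h (by simp)
  simp [e]

theorem d_one {W : (PS n R).Opens} : (dP n R).app W (1 : Γ(PS n R, W)) = 0 := by
  have h := der_mul (dP n R) (U := W) (1 : Γ(PS n R, W)) 1
  rw [mul_one, one_smul] at h
  exact left_eq_add.1 h

/-- The value on the differential of any coordinate ratio. -/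
theorem cm_d (j i m : Fin (n + 1)) {W : (PS n R).Opens} (h : W ≤ DO n R i) :
    cm n R j i h ((dP n R).app W (ro h (rat n R i m))) =
      (if m = j then 1 else 0) - if i = j then ro h (rat n R i m) else 0 := by
  classical
  rcases eq_or_ne m i with rfl | hm
  · have e : ro h (rat n R m m) = (1 : Γ(PS n R, W)) := by rw [rat_self]; exact map_one _
    rw [e, d_one, map_zero, sub_self]
  · obtain ⟨k, rfl⟩ := Fin.exists_succAbove_eq hm
    have e : (dP n R).app W (ro h (rat n R i (i.succAbove k))) = rs (OP n R) h (dr n R i k) := by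
      rw [der_map]
      rfl
    rw [e, cm_basis, val]
    refine (map_sub ((PS n R).presheaf.map (homOfLE h).op).hom _ _).trans ?_
    congr 1 <;> split_ifs <;> first | exact map_one _ | exact map_zero _ | rfl

/-- The candidate on opens inside a standard open. -/
def um (j i : Fin (n + 1)) {W : (PS n R).Opens} (h : W ≤ DO n R i) (s : Γ(OP n R, W)) : Γ(Om1 n R, W) :=
  cm n R j i h s • rs (Om1 n R) h (fe n R i)

theorem um_eq (j i l : Fin (n + 1)) {W : (PS n R).Opens} (hi : W ≤ DO n R i) (hl : W ≤ DO n R l)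
    (s : Γ(OP n R, W)) : um n R j i hi s = um n R j l hl s := by
  classical
  set ti : Γ(PS n R, W) := ro hl (rat n R l i)
  set t : Γ(PS n R, W) := ro hi (rat n R i l)
  have htt : t * ti = 1 := by
    rw [mul_comm]
    refine (mul_comm _ _).trans ?_
    have h1 := rat_trans n R hi hl l
    rw [rat_self] at h1
    exact h1.symm.trans (map_one _)
  have hfe : rs (Om1 n R) hl (fe n R l) = ti • rs (Om1 n R) hi (fe n R i) := rs_fe n R hi hl
  suffices hlin : cm n R j i hi s = ti * cm n R j l hl s by
    rw [um, um, hfe, smul_smul, hlin, mul_comm]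
  obtain ⟨c, rfl⟩ := ((isBasisS_dr n R l) W hl).2 s
  simp only [map_sum, map_smul, Finset.mul_sum, smul_eq_mul]
  refine Finset.sum_congr rfl fun k _ => ?_
  rw [mul_left_comm]
  refine congrArg (c k * ·) ?_
  set m := l.succAbove k
  have e : rs (OP n R) hl (dr n R l k) = (dP n R).app W (ro hl (rat n R l m)) := by
    rw [der_map]
    rfl
  rw [e]
  have hl' : cm n R j l hl ((dP n R).app W (ro hl (rat n R l m))) =
      (if m = j then 1 else 0) - if l = j then ro hl (rat n R l m) else 0 := cm_d n R j l m hl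
  rw [hl']
  have h0 : (dP n R).app W (t * ti) = 0 := by rw [htt, d_one]
  rw [der_mul] at h0
  have hm : ro hl (rat n R l m) = ro hi (rat n R i m) * ti := rat_trans n R hi hl m
  have h1 := congrArg (cm n R j i hi) h0
  rw [map_add, map_smul, map_smul, map_zero, smul_eq_mul, smul_eq_mul, cm_d] at h1
  rw [hm, der_mul, map_add, map_smul, map_smul, smul_eq_mul, smul_eq_mul, cm_d]
  set q : Γ(PS n R, W) := cm n R j i hi ((dP n R).app W ti)
  set r : Γ(PS n R, W) := ro hi (rat n R i m)
  have hq : q = -(ti * ti) * ((if l = j then 1 else 0) - if i = j then t else 0) := by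
    linear_combination ti * h1 - q * htt
  rw [hq]
  split_ifs <;> first
    | ring1
    | linear_combination (r * ti) * htt

theorem exists_u (j : Fin (n + 1)) :
    ∃ u : OP n R ⟶ Om1 n R, ∀ (i : Fin (n + 1)) (W : (PS n R).Opens) (h : W ≤ DO n R i) (s : Γ(OP n R, W)),
      u.app W s = um n R j i h s := by
  have hU : iSup (fun i : ULift.{u} (Fin (n + 1)) => DO n R i.down) = ⊤ :=
    top_le_iff.1 fun x _ => Opens.mem_iSup.2 <| by
      obtain ⟨i, hi⟩ := Groth.L16.ProjSpace.exists_mem_basicOpen_X n R x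
      exact ⟨⟨i⟩, hi⟩
  have hadd : ∀ (i : Fin (n + 1)) (W : (PS n R).Opens) (h : W ≤ DO n R i) (a b : Γ(OP n R, W)),
      um n R j i h (a + b) = um n R j i h a + um n R j i h b := fun i W h a b => by
    simp only [um, map_add, add_smul]
  obtain ⟨u, hu, -⟩ := Groth.L21.Mod.existsUnique_hom hU (M := OP n R) (N := Om1 n R)
    (fun i W h => AddCommGrpCat.ofHom (AddMonoidHom.mk' (um n R j i.down h) (hadd i.down W h)))
    (fun i l V W hV hW h => by
      ext s
      show um n R j i.down hV (rs (OP n R) h s) = rs (Om1 n R) h (um n R j l.down hW s)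
      rw [um_eq n R j i.down l.down hV (h.trans hW), um, um, cm_rs, rs_smul, rs_rs])
    (fun i W h r s => by
      show um n R j i.down h (r • s) = r • um n R j i.down h s
      simp only [um, map_smul, smul_eq_mul, mul_smul])
  exact ⟨u, fun i W h s => congr($(hu ⟨i⟩ W h) s)⟩

/-- The map `Ω → O(-1)` of the `j`th partial derivative. -/
def uj (j : Fin (n + 1)) : OP n R ⟶ Om1 n R := (exists_u n R j).choose

theorem uj_dr (i : Fin (n + 1)) (k : Fin n) (b : Fin n) :
    (uj n R (i.succAbove b)).app (DO n R i) (dr n R i k) =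
      (if k = b then (1 : Γ(PS n R, DO n R i)) else 0) • fe n R i := by
  classical
  refine ((exists_u n R _).choose_spec i _ le_rfl _).trans ?_
  rw [um, rs_self]
  have h := cm_basis n R (i.succAbove b) i (le_refl (DO n R i)) k
  rw [rs_self, ro_self] at h
  rw [h, val, if_neg (Fin.succAbove_ne i b).symm, sub_zero]
  simp only [Fin.succAbove_right_inj]

end Groth.L21.NormalSheaf
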