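import Groth.Agent.L21.NormalSheaf.Euler
import Groth.Agent.L21.NormalSheaf.Conormal
import Groth.Agent.L21.NormalSheaf.Dual
import Groth.Agent.L21.Nodal.Reduced
import Groth.Agent.L21.RR.Twist
import Groth.Agent.L22.Adjunction.NormalDiv
import Groth.Agent.L22.Reg.Pn
import Groth.Agent.L16.AffineBC.Pullback
import Groth.Agent.L07.DiffMonoGeneric
import Groth.Agent.L19.OmegaSh.GroupScheme

/-!
The first cohomology of the normal sheaf of a reduced curve in projective space on which `O(1)` is nonspecial.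
-/

set_option autoImplicit false
set_option backward.isDefEq.respectTransparency false
set_option backward.isDefEq.respectTransparency.types false
set_option linter.style.haveILetI false
universe u

open CategoryTheory CategoryTheory.Limits AlgebraicGeometry TopologicalSpace Opposite
open Groth.L18.Frame (rs ro rs_rs rs_self rs_smul pull)
open Groth.L21.RR (st st_germ)
open Groth.L22.Adjunction (PS DO OP dP dr isBasisS_dr)

noncomputable section

namespace Groth.L21.NormalSheaf

variable (n : ℕ) {k : Type u} [Field k] {X : Scheme.{u}} (i : X ⟶ PS n k)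

/-- The `j`th map from the conormal sheaf to `O(-1)`. -/
def uC [QuasiSeparated (CohB1.ProjSpace.toSpec n k)]
    (φ : Omega.conormal i ⟶ (Scheme.Modules.pullback i).obj (OP n k)) (j : Fin (n + 1)) :
    Omega.conormal i ⟶ (Scheme.Modules.pullback i).obj (Om1 n k) :=
  φ ≫ (Scheme.Modules.pullback i).map (uj n k j)

theorem eq_zero_of_uC [QuasiSeparated (CohB1.ProjSpace.toSpec n k)] [IsImmersion i] [QuasiCompact i]
    {φ : Omega.conormal i ⟶ (Scheme.Modules.pullback i).obj (OP n k)}
    (hφ : OmegaSh.IsConormalDiff i (dP n k) φ) {U₀ : X.Opens}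
    (hU₀ : MoreMor.IsFormallySmoothHom (U₀.ι ≫ i ≫ CohB1.ProjSpace.toSpec n k)) {x : X} (hx : x ∈ U₀)
    (v : (Omega.conormal i).presheaf.stalk x) (h : ∀ j, st (uC n i φ j) x v = 0) : v = 0 := by
  classical
  obtain ⟨O, hxO, s, rfl⟩ := TopCat.Presheaf.exists_germ_eq (Omega.conormal i).presheaf v
  obtain ⟨l, hl⟩ := Groth.L16.ProjSpace.exists_mem_basicOpen_X n k (i x)
  let W : X.Opens := O ⊓ i ⁻¹ᵁ DO n k l
  have hxW : x ∈ W := ⟨hxO, hl⟩
  have hWl : W ≤ i ⁻¹ᵁ DO n k l := inf_le_right
  let E := (Scheme.Modules.pullback i).obj (OP n k)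
  let L := (Scheme.Modules.pullback i).obj (Om1 n k)
  have hb : Groth.L19.ProjBdl.IsBasisOn E (i ⁻¹ᵁ DO n k l) fun a => pull i (OP n k) (DO n k l) (dr n k l a) :=
    Groth.L19.ProjBdl.IsBasisOn.pullback i (isBasisS_dr n k l)
  let t : Γ(E, W) := φ.app W (rs (Omega.conormal i) (inf_le_left : W ≤ O) s)
  obtain ⟨c, hc⟩ := (hb W hWl).2 t
  let e : Γ(L, W) := rs L hWl (pull i (Om1 n k) (DO n k l) (fe n k l))
  have he : Groth.L18.Frame.IsFrame L W e := ((isFrame_fe n k l).pullback i).mono hWl
  have hval : ∀ b : Fin n, ((Scheme.Modules.pullback i).map (uj n k (l.succAbove b))).app W t = c b • e := by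
    intro b
    refine (congrArg _ hc.symm).trans ((Groth.L19.ProjBdl.app_lc _ _ hWl c).trans ?_)
    rw [Groth.L19.ProjBdl.lc, Finset.sum_eq_single b]
    · rw [Groth.L19.ProjBdl.pull_app, uj_dr, if_pos rfl, one_smul]
    · intro a _ ha
      rw [Groth.L19.ProjBdl.pull_app, uj_dr, if_neg ha, zero_smul,
        show pull i (Om1 n k) (DO n k l) 0 = 0 from map_zero _]
      exact (congrArg (c a • ·) (map_zero _)).trans (smul_zero _)
    · exact fun h => absurd (Finset.mem_univ b) h
  have hc0 : ∀ b, X.presheaf.germ W x hxW (c b) = 0 := fun b => by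
    have h1 := h (l.succAbove b)
    rw [← TopCat.Presheaf.germ_res_apply (Omega.conormal i).presheaf (homOfLE (inf_le_left : W ≤ O)) x hxW s,
      st_germ] at h1
    change L.presheaf.germ W x hxW (((Scheme.Modules.pullback i).map (uj n k (l.succAbove b))).app W t) = 0 at h1
    rw [hval, Groth.L20.ModStalk.germ_smul] at h1
    exact (Groth.L21.RR.bijective_germ_frame he hxW).1 (h1.trans (zero_smul (X.presheaf.stalk x) _).symm)
  have ht : E.presheaf.germ W x hxW t = 0 := by
    rw [← hc, Groth.L19.ProjBdl.lc, map_sum]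
    refine Finset.sum_eq_zero fun a _ => ?_
    rw [Groth.L20.ModStalk.germ_smul, hc0, zero_smul]
  have h2 := germ_eq_zero_of_formallySmooth_nhd hU₀ (Groth.L19.OmegaSh.isUniversal_dOmega
    (f := CohB1.ProjSpace.toSpec n k)) hφ hx hxW (rs (Omega.conormal i) (inf_le_left : W ≤ O) s) ht
  exact (TopCat.Presheaf.germ_res_apply (Omega.conormal i).presheaf _ x hxW s).symm.trans h2

theorem subsingleton_h1_normal [PerfectField k] [IsClosedImmersion i] [IsReduced X]
    (hdim : topologicalKrullDim X ≤ 1)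
    (h1 : Subsingleton (Coh.HH X ((Scheme.Modules.pullback i).obj (Twist.twistProjSpace n k 1)) 1))
    [DCoh.HasSheafHom (Omega.conormal i)] :
    Subsingleton (Coh.HH X ((DCoh.sheafHom (Omega.conormal i)).obj (Coh.structureModule X)) 1) := by
  haveI : IsProper (i ≫ CohB1.ProjSpace.toSpec n k) := inferInstance
  haveI : IsLocallyNoetherian X := LocallyOfFiniteType.isLocallyNoetherian (i ≫ CohB1.ProjSpace.toSpec n k)
  haveI : CompactSpace X := QuasiCompact.compactSpace_of_compactSpace (i ≫ CohB1.ProjSpace.toSpec n k)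
  haveI : IsNoetherian X := {}
  haveI : IsLocallyNoetherian (PS n k) := LocallyOfFiniteType.isLocallyNoetherian (CohB1.ProjSpace.toSpec n k)
  haveI : LocallyOfFinitePresentation (i ≫ CohB1.ProjSpace.toSpec n k) :=
    LocallyOfFinitePresentation.iff_locallyOfFiniteType.2 inferInstance
  haveI : JacobsonSpace X := LocallyOfFiniteType.jacobsonSpace (i ≫ CohB1.ProjSpace.toSpec n k)
  obtain ⟨φ, hφ⟩ := Groth.L19.OmegaSh.exists_conormalDiff i (dP n k)
  let L := (Scheme.Modules.pullback i).obj (Om1 n k)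
  have hinv : PicF.IsInvertible L :=
    Groth.L18.Ample.isInvertible_pullback i (Groth.L16.ProjTwist.isInvertible_twistProjSpace n k _)
  have hC : Coh.IsCoh (Omega.conormal i) :=
    Groth.L16.AffineBC.isCoh_pullback i (Groth.L21.RR.isCoh_idealMod i.ker)
  haveI : Coh.IsQCoh (Coh.structureModule X) := (Groth.L16.CohClosedPush.isCoh_structure (X := X)).1
  let G := Coh.structureModule X
  let ψ := biproduct.desc fun j : ULift.{u} (Fin (n + 1)) => precomp (uC n i φ j.down) G
  have hψ : Groth.L21.RR.SuppClosed (cokernel ψ) :=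
    Groth.L21.RR.suppClosed_cokernel_of_surjective ψ fun x hx => by
      have hmax : ∀ y : X, y ⤳ x → y = x := fun y hy => by
        obtain ⟨w, hxw, hwc⟩ := Groth.L21.Nodal.exists_closed_specialization x
        exact (Groth.L21.Nodal.eq_or_eq_of_topologicalKrullDim_le_one hdim hy hxw).resolve_right
          fun e => hx (e ▸ hwc)
      obtain ⟨U₀, hxU, hU₀⟩ :=
        Groth.L21.Nodal.exists_smooth_nhd_of_maximal (i ≫ CohB1.ProjSpace.toSpec n k) x hmax
      haveI := hU₀
      exact surjective_desc_precomp (fun j : ULift.{u} (Fin (n + 1)) => uC n i φ j.down) G hC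
        (Groth.L16.ProperFinite.isCoh_of_isInvertible hinv) x (Groth.L21.Nodal.isField_stalk_of_maximal x hmax)
        fun v hv => eq_zero_of_uC n i hφ (Groth.L07.DiffMono.isFormallySmoothHom_of_smooth _) hxU v
          fun j => hv ⟨j⟩
  obtain ⟨e0⟩ := Groth.L22.Reg.nonempty_O_add (n := n) (R := k) (show (-1 : ℤ) + 1 = 0 by norm_num)
  obtain ⟨e00⟩ := Groth.L22.Reg.nonempty_O_zero n k
  obtain ⟨d⟩ := Groth.L22.Adjunction.nonempty_dual_iso hinv
    (L' := (Scheme.Modules.pullback i).obj (Twist.twistProjSpace n k 1))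
    (Groth.L29.DC.PullTensor.pullTensor i _ _ ≪≫ (Scheme.Modules.pullback i).mapIso (e0 ≪≫ e00) ≪≫
      Groth.L29.LocFree.pullbackUnitIso i)
  haveI hF : Subsingleton (Coh.HH X (⨁ fun _ : ULift.{u} (Fin (n + 1)) => RefHull.homSh L G) 1) :=
    Groth.L12.GenusZero.subsingleton_biproduct _ fun _ => Groth.L22.Reg.subsingleton_congr_iso d 1 |>.2 h1
  have hs := Groth.L21.RR.surjective_hmap_one_of_suppClosed hdim ψ hψ
  haveI : Subsingleton (Coh.HH X (RefHull.homSh (Omega.conormal i) G) 1) := hs.subsingleton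
  exact (Groth.L22.Reg.subsingleton_congr_iso
    (Groth.L17.SheafHomCoh.isoHomSh (Omega.conormal i) G) 1).2 inferInstance

end Groth.L21.NormalSheaf
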